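import Groth.Prelude.Def_EtTens2
import Groth.Agent.EtaleSite.Stalk
import Mathlib.CategoryTheory.Filtered.Basic

/-!
# Stalks of the tensor product of abelian sheaves

The stalk of `F ⊗ G` is the tensor product of the stalks: `alpha` is bijective and sends the tensor
product of two germs to the germ of the tensor product of the sections.
-/

set_option autoImplicit false

universe u

open CategoryTheory CategoryTheory.Limits AlgebraicGeometry Opposite
open scoped TensorProduct

noncomputable section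

namespace Groth.Agent.EtTensLib

open EtaleSite

variable {X : Scheme.{u}}

/-- The tensor product of two sheaves. -/
abbrev tens (F G : EtCoh.Ab X) : EtCoh.Ab X := (EtTens.tensorBi.obj F).obj G

/-- From the presheaf tensor product to the sheaf one. -/
def toTens (F G : EtCoh.Ab X) : EtTens.tensorObj F.obj G.obj ⟶ (tens F G).obj :=
  toSheafify X.smallEtaleTopology (EtTens.tensorObj F.obj G.obj)

/-- The tensor product of two sections. -/
def tm (F G : EtCoh.Ab X) {V : X.Etale} (s : F.obj.obj (op V)) (r : G.obj.obj (op V)) :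
    (tens F G).obj.obj (op V) :=
  (toTens F G).app (op V) (s ⊗ₜ[ℤ] r)

theorem tm_add_left (F G : EtCoh.Ab X) {V : X.Etale} (s s' : F.obj.obj (op V))
    (r : G.obj.obj (op V)) : tm F G (s + s') r = tm F G s r + tm F G s' r := by
  simp only [tm, TensorProduct.add_tmul]
  exact map_add _ _ _

theorem tm_add_right (F G : EtCoh.Ab X) {V : X.Etale} (s : F.obj.obj (op V))
    (r r' : G.obj.obj (op V)) : tm F G s (r + r') = tm F G s r + tm F G s r' := by
  simp only [tm, TensorProduct.tmul_add]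
  exact map_add _ _ _

theorem tm_zero_left (F G : EtCoh.Ab X) {V : X.Etale} (r : G.obj.obj (op V)) :
    tm F G (0 : F.obj.obj (op V)) r = 0 := by
  simp only [tm, TensorProduct.zero_tmul]
  exact map_zero _

theorem map_tm (F G : EtCoh.Ab X) {V W : X.Etale} (g : W ⟶ V) (s : F.obj.obj (op V))
    (r : G.obj.obj (op V)) :
    (tens F G).obj.map g.op (tm F G s r) = tm F G (F.obj.map g.op s) (G.obj.map g.op r) :=
  (NatTrans.naturality_apply (toTens F G) g.op _).symm

variable {Ω : Type u} [Field Ω] [IsSepClosed Ω] (ξ : Spec (CommRingCat.of Ω) ⟶ X)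
  (F G : EtCoh.Ab X)

/-- Two germs have representatives over the same neighbourhood. -/
theorem exists_common (p : (EtCoh.stalk ξ).obj F) (q : (EtCoh.stalk ξ).obj G) :
    ∃ (V : X.Etale) (t : (Scheme.pointSmallEtale ξ).fiber.obj V) (s : F.obj.obj (op V))
      (r : G.obj.obj (op V)), germ ξ F V t s = p ∧ germ ξ G V t r = q := by
  obtain ⟨U, x, s, rfl⟩ := exists_germ_eq ξ F p
  obtain ⟨W, y, r, rfl⟩ := exists_germ_eq ξ G q
  let P : X.Etale ⥤ Type u := (Scheme.pointSmallEtale ξ).fiber
  obtain ⟨M, a, b, -⟩ := IsCofilteredOrEmpty.cone_objs (C := P.Elements) (⟨U, x⟩ : P.Elements) ⟨W, y⟩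
  refine ⟨M.1, M.2, F.obj.map a.1.op s, G.obj.map b.1.op r, ?_, ?_⟩
  · exact (germ_res ξ F a.1 M.2 s).trans (congrArg (fun z => germ ξ F U z s) a.2)
  · exact (germ_res ξ G b.1 M.2 r).trans (congrArg (fun z => germ ξ G W z r) b.2)

theorem germ_tm_congr {V : X.Etale} (t : (Scheme.pointSmallEtale ξ).fiber.obj V)
    (s s' : F.obj.obj (op V)) (r r' : G.obj.obj (op V)) (hs : germ ξ F V t s = germ ξ F V t s')
    (hr : germ ξ G V t r = germ ξ G V t r') :
    germ ξ (tens F G) V t (tm F G s r) = germ ξ (tens F G) V t (tm F G s' r') := by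
  obtain ⟨W, g, y, rfl, eg⟩ := (germ_eq_iff ξ F V t s s').1 hs
  rw [← germ_res, ← germ_res] at hr
  rw [← germ_res, ← germ_res, map_tm, map_tm, eg]
  obtain ⟨W', g', y', rfl, eg'⟩ := (germ_eq_iff ξ G W y _ _).1 hr
  rw [← germ_res, ← germ_res, map_tm, map_tm, eg']

theorem germ_tm_congr' {V V' : X.Etale} (t : (Scheme.pointSmallEtale ξ).fiber.obj V)
    (t' : (Scheme.pointSmallEtale ξ).fiber.obj V') (s : F.obj.obj (op V)) (s' : F.obj.obj (op V'))
    (r : G.obj.obj (op V)) (r' : G.obj.obj (op V')) (hs : germ ξ F V t s = germ ξ F V' t' s')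
    (hr : germ ξ G V t r = germ ξ G V' t' r') :
    germ ξ (tens F G) V t (tm F G s r) = germ ξ (tens F G) V' t' (tm F G s' r') := by
  let P : X.Etale ⥤ Type u := (Scheme.pointSmallEtale ξ).fiber
  obtain ⟨⟨M, z⟩, ⟨a, ha⟩, ⟨b, hb⟩, -⟩ :=
    IsCofilteredOrEmpty.cone_objs (C := P.Elements) (⟨V, t⟩ : P.Elements) ⟨V', t'⟩
  dsimp only at a b ha hb
  obtain rfl : (Scheme.pointSmallEtale ξ).fiber.map a z = t := ha
  obtain rfl : (Scheme.pointSmallEtale ξ).fiber.map b z = _ := hb
  rw [← germ_res, ← germ_res] at hs hr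
  rw [← germ_res, ← germ_res, map_tm, map_tm]
  exact germ_tm_congr ξ F G z _ _ _ _ hs hr

/-- The tensor product of two germs. -/
def tmGerm (p : (EtCoh.stalk ξ).obj F) (q : (EtCoh.stalk ξ).obj G) :
    (EtCoh.stalk ξ).obj (tens F G) :=
  germ ξ (tens F G) _ (exists_common ξ F G p q).choose_spec.choose
    (tm F G (exists_common ξ F G p q).choose_spec.choose_spec.choose
      (exists_common ξ F G p q).choose_spec.choose_spec.choose_spec.choose)

theorem tmGerm_germ {V : X.Etale} (t : (Scheme.pointSmallEtale ξ).fiber.obj V)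
    (s : F.obj.obj (op V)) (r : G.obj.obj (op V)) :
    tmGerm ξ F G (germ ξ F V t s) (germ ξ G V t r) = germ ξ (tens F G) V t (tm F G s r) := by
  obtain ⟨h1, h2⟩ := (exists_common ξ F G (germ ξ F V t s)
    (germ ξ G V t r)).choose_spec.choose_spec.choose_spec.choose_spec
  exact germ_tm_congr' ξ F G _ t _ s _ r h1 h2

theorem tmGerm_add_left (p p' : (EtCoh.stalk ξ).obj F) (q : (EtCoh.stalk ξ).obj G) :
    tmGerm ξ F G (p + p') q = tmGerm ξ F G p q + tmGerm ξ F G p' q := by
  obtain ⟨V, t, s, r, rfl, rfl⟩ := exists_common ξ F G p q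
  obtain ⟨U, x, s', rfl⟩ := exists_germ_eq ξ F p'
  let P : X.Etale ⥤ Type u := (Scheme.pointSmallEtale ξ).fiber
  obtain ⟨⟨M, z⟩, ⟨a, ha⟩, ⟨b, hb⟩, -⟩ :=
    IsCofilteredOrEmpty.cone_objs (C := P.Elements) (⟨V, t⟩ : P.Elements) ⟨U, x⟩
  dsimp only at a b ha hb
  obtain rfl : (Scheme.pointSmallEtale ξ).fiber.map a z = t := ha
  obtain rfl : (Scheme.pointSmallEtale ξ).fiber.map b z = _ := hb
  rw [← germ_res, ← germ_res, ← germ_res, ← map_add, tmGerm_germ, tmGerm_germ, tmGerm_germ,
    tm_add_left, map_add]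

theorem tmGerm_add_right (p : (EtCoh.stalk ξ).obj F) (q q' : (EtCoh.stalk ξ).obj G) :
    tmGerm ξ F G p (q + q') = tmGerm ξ F G p q + tmGerm ξ F G p q' := by
  obtain ⟨V, t, s, r, rfl, rfl⟩ := exists_common ξ F G p q
  obtain ⟨U, x, r', rfl⟩ := exists_germ_eq ξ G q'
  let P : X.Etale ⥤ Type u := (Scheme.pointSmallEtale ξ).fiber
  obtain ⟨⟨M, z⟩, ⟨a, ha⟩, ⟨b, hb⟩, -⟩ :=
    IsCofilteredOrEmpty.cone_objs (C := P.Elements) (⟨V, t⟩ : P.Elements) ⟨U, x⟩
  dsimp only at a b ha hb
  obtain rfl : (Scheme.pointSmallEtale ξ).fiber.map a z = t := ha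
  obtain rfl : (Scheme.pointSmallEtale ξ).fiber.map b z = _ := hb
  rw [← germ_res, ← germ_res, ← germ_res, ← map_add, tmGerm_germ, tmGerm_germ, tmGerm_germ,
    tm_add_right, map_add]

/-- The comparison map `F_ξ ⊗ G_ξ ⟶ (F ⊗ G)_ξ`. -/
def alpha : (EtCoh.stalk ξ).obj F ⊗[ℤ] (EtCoh.stalk ξ).obj G →+ (EtCoh.stalk ξ).obj (tens F G) :=
  TensorProduct.liftAddHom
    (AddMonoidHom.mk' (fun p => AddMonoidHom.mk' (tmGerm ξ F G p) (tmGerm_add_right ξ F G p))
      fun p p' => AddMonoidHom.ext fun q => tmGerm_add_left ξ F G p p' q)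
    fun n p q => by rw [map_zsmul, map_zsmul, AddMonoidHom.smul_apply]

theorem alpha_germ {V : X.Etale} (t : (Scheme.pointSmallEtale ξ).fiber.obj V)
    (s : F.obj.obj (op V)) (r : G.obj.obj (op V)) :
    alpha ξ F G (germ ξ F V t s ⊗ₜ[ℤ] germ ξ G V t r) = germ ξ (tens F G) V t (tm F G s r) :=
  tmGerm_germ ξ F G t s r

/-- The two germs of a tensor of sections. -/
def germTens (V : X.Etale) (t : (Scheme.pointSmallEtale ξ).fiber.obj V) :
    (EtTens.tensorObj F.obj G.obj).obj (op V) ⟶
      AddCommGrpCat.of ((EtCoh.stalk ξ).obj F ⊗[ℤ] (EtCoh.stalk ξ).obj G) :=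
  AddCommGrpCat.ofHom (TensorProduct.map (germ ξ F V t).hom.toIntLinearMap
    (germ ξ G V t).hom.toIntLinearMap).toAddMonoidHom

/-- The left inverse of the comparison map on the presheaf fibre. -/
def beta : (Scheme.pointSmallEtale ξ).presheafFiber.obj (EtTens.tensorObj F.obj G.obj) ⟶
    AddCommGrpCat.of ((EtCoh.stalk ξ).obj F ⊗[ℤ] (EtCoh.stalk ξ).obj G) :=
  (Scheme.pointSmallEtale ξ).presheafFiberDesc (germTens ξ F G) fun _ _ g t =>
    EtTens.hom_ext_tmul fun s r => congrArg₂ (fun a b => a ⊗ₜ[ℤ] b) (germ_res ξ F g t s) (germ_res ξ G g t r)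

theorem germ_toTens (V : X.Etale) (t : (Scheme.pointSmallEtale ξ).fiber.obj V)
    (z : (EtTens.tensorObj F.obj G.obj).obj (op V)) :
    (Scheme.pointSmallEtale ξ).presheafFiber.map (toTens F G)
      ((Scheme.pointSmallEtale ξ).toPresheafFiber V t (EtTens.tensorObj F.obj G.obj) z) =
      germ ξ (tens F G) V t ((toTens F G).app (op V) z) :=
  (Scheme.pointSmallEtale ξ).toPresheafFiber_naturality_apply (toTens F G) V t z

theorem map_bijective : Function.Bijective ((Scheme.pointSmallEtale ξ).presheafFiber.map (toTens F G)) :=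
  have : Presheaf.IsLocallyInjective X.smallEtaleTopology (toTens F G) :=
    inferInstanceAs (Presheaf.IsLocallyInjective X.smallEtaleTopology
      (toSheafify X.smallEtaleTopology (EtTens.tensorObj F.obj G.obj)))
  have : Presheaf.IsLocallySurjective X.smallEtaleTopology (toTens F G) :=
    inferInstanceAs (Presheaf.IsLocallySurjective X.smallEtaleTopology
      (toSheafify X.smallEtaleTopology (EtTens.tensorObj F.obj G.obj)))
  (Scheme.pointSmallEtale ξ).toPresheafFiber_map_bijective _

theorem alpha_germTens (V : X.Etale) (t : (Scheme.pointSmallEtale ξ).fiber.obj V)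
    (z : (EtTens.tensorObj F.obj G.obj).obj (op V)) :
    alpha ξ F G (germTens ξ F G V t z) = germ ξ (tens F G) V t ((toTens F G).app (op V) z) := by
  let L : (EtTens.tensorObj F.obj G.obj).obj (op V) →+ (EtCoh.stalk ξ).obj (tens F G) :=
    (alpha ξ F G).comp (germTens ξ F G V t).hom
  let R : (EtTens.tensorObj F.obj G.obj).obj (op V) →+ (EtCoh.stalk ξ).obj (tens F G) :=
    (germ ξ (tens F G) V t).hom.comp ((toTens F G).app (op V)).hom
  show L z = R z
  induction z using TensorProduct.induction_on with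
  | zero => exact (map_zero L).trans (map_zero R).symm
  | tmul s r => exact alpha_germ ξ F G t s r
  | add a b ha hb => exact (map_add L a b).trans ((congrArg₂ (· + ·) ha hb).trans (map_add R a b).symm)

/-- The stalk of a tensor product is the tensor product of the stalks. -/
theorem alpha_bijective : Function.Bijective (alpha ξ F G) := by
  constructor
  · let e : ((Scheme.pointSmallEtale ξ).presheafFiber (A := AddCommGrpCat.{u + 1})).obj
        (EtTens.tensorObj F.obj G.obj) ≃+
        (EtCoh.stalk ξ).obj (tens F G) :=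
      AddEquiv.ofBijective ((Scheme.pointSmallEtale ξ).presheafFiber.map (toTens F G)).hom
        (map_bijective ξ F G)
    let L : (EtCoh.stalk ξ).obj F ⊗[ℤ] (EtCoh.stalk ξ).obj G →+
        (EtCoh.stalk ξ).obj F ⊗[ℤ] (EtCoh.stalk ξ).obj G :=
      (beta ξ F G).hom.comp (e.symm.toAddMonoidHom.comp (alpha ξ F G))
    refine Function.LeftInverse.injective (g := fun x => (beta ξ F G) (e.symm x)) fun z => ?_
    show L z = z
    induction z using TensorProduct.induction_on with
    | zero => exact map_zero L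
    | tmul p q =>
      obtain ⟨V, t, s, r, rfl, rfl⟩ := exists_common ξ F G p q
      have h : e.symm (germ ξ (tens F G) V t (tm F G s r)) =
          (Scheme.pointSmallEtale ξ).toPresheafFiber V t (EtTens.tensorObj F.obj G.obj) (s ⊗ₜ[ℤ] r) :=
        e.symm_apply_eq.2 (germ_toTens ξ F G V t _).symm
      refine (congrArg (fun x => beta ξ F G (e.symm x)) (alpha_germ ξ F G t s r)).trans ?_
      refine (congrArg (beta ξ F G) h).trans ?_
      exact ConcreteCategory.congr_hom
        ((Scheme.pointSmallEtale ξ).toPresheafFiber_presheafFiberDesc (germTens ξ F G) _ V t) _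
    | add a b ha hb => exact (map_add L a b).trans (congrArg₂ (· + ·) ha hb)
  · intro x
    obtain ⟨x, rfl⟩ := (map_bijective ξ F G).2 x
    obtain ⟨V, t, z, rfl⟩ := (Scheme.pointSmallEtale ξ).toPresheafFiber_jointly_surjective x
    exact ⟨germTens ξ F G V t z, (alpha_germTens ξ F G V t z).trans (germ_toTens ξ F G V t z).symm⟩

end Groth.Agent.EtTensLib
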